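import Mathlib
import Cfsg.Agent.Lib.Core.Frattini
import Cfsg.Agent.Lib.Coprime.SZ
import Cfsg.Agent.Lib.Transfer.Basic2

/-!
# Grün's first theorem, Thompson's transfer lemma, and lifting `p`-nilpotence over `Φ(G)`
-/

set_option autoImplicit false
set_option linter.unusedSectionVars false

namespace Cfsg.Agent.Transfer

open Cfsg Subgroup
open scoped Pointwise

variable {G : Type*} [Group G] [Finite G] {p : ℕ} [hp : Fact p.Prime]

/-- Elements `a⁻¹ * (g * a * g⁻¹)` generate `P ∩ G'`. -/
theorem sylow_inf_commutator_le_of_fusion (P : Sylow p G) {D : Subgroup G}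
    (h : ∀ a ∈ (P : Subgroup G), ∀ g : G, g * a * g⁻¹ ∈ (P : Subgroup G) →
      a⁻¹ * (g * a * g⁻¹) ∈ D) : (P : Subgroup G) ⊓ commutator G ≤ D := by
  rw [inf_comm, Subgroup.commutator_inf_eq_focalSubgroup, Subgroup.focalSubgroup_def, closure_le]
  rintro _ ⟨hg, x, hx, u, rfl⟩
  have h1 : u * x⁻¹ * u⁻¹ ∈ (P : Subgroup G) := by
    have := (P : Subgroup G).mul_mem ((P : Subgroup G).inv_mem hx) hg
    simpa [commutatorElement_def, mul_assoc] using this
  have := h x⁻¹ ((P : Subgroup G).inv_mem hx) u h1
  simpa [commutatorElement_def, mul_assoc] using this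

/-- **Grün's first theorem**. -/
theorem gruen_first (P : Sylow p G) :
    (P : Subgroup G) ⊓ commutator G =
      ((P : Subgroup G) ⊓ ⁅normalizer ((P : Subgroup G) : Set G),
        normalizer ((P : Subgroup G) : Set G)⁆) ⊔
      ⨆ z : G, (P : Subgroup G) ⊓
        (⁅(P : Subgroup G), (P : Subgroup G)⁆).map (MulAut.conj z).toMonoidHom := by
  refine le_antisymm ?_ (sup_le (inf_le_inf_left _ (commutator_mono le_top le_top))
    (iSup_le fun z => inf_le_inf_left _ ?_))
  swap
  · rw [map_commutator]; exact commutator_mono le_top le_top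
  set D := ((P : Subgroup G) ⊓ ⁅normalizer ((P : Subgroup G) : Set G),
        normalizer ((P : Subgroup G) : Set G)⁆) ⊔
      ⨆ z : G, (P : Subgroup G) ⊓
        (⁅(P : Subgroup G), (P : Subgroup G)⁆).map (MulAut.conj z).toMonoidHom with hD
  refine sylow_inf_commutator_le_of_fusion P fun a ha g hg => ?_
  have hT : FusionPred P (fun A g => ∀ a ∈ A, a⁻¹ * (g * a * g⁻¹) ∈ D) := by
    refine ⟨fun A B g hAB hB a ha => hB a (hAB ha), fun A B g h hA hB hAB a ha => ?_,
      fun y hy a ha => ?_⟩
    · have := D.mul_mem (hA a ha) (hB _ (hAB (conj_mem_conj_smul ha)))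
      simpa [mul_assoc] using this
    · refine mem_sup_left ⟨(P : Subgroup G).mul_mem ((P : Subgroup G).inv_mem ha)
        ((mem_normalizer_iff.1 hy a).1 ha), ?_⟩
      have := commutator_mem_commutator
        ((normalizer ((P : Subgroup G) : Set G)).inv_mem (le_normalizer ha)) hy
      simpa [commutatorElement_def, mul_assoc] using this
  refine alperin_induction P hT (fun Q _ x hx hxp a ha => ?_) (A := zpowers a)
    ((zpowers_le).2 ha) ?_ a (mem_zpowers a)
  · obtain ⟨k, hk⟩ := hxp
    have hX : IsPGroup p ((P : Subgroup G) ⊓ Q : Subgroup G) := P.2.to_le inf_le_left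
    have hx' : IsPGroup p (zpowers x) := IsPGroup.of_card (n := k) (by rw [Nat.card_zpowers, hk])
    obtain ⟨R, hR⟩ := (hx'.to_sup_of_normal_right' hX ((zpowers_le).2 hx)).exists_le_sylow
    obtain ⟨z, rfl⟩ := MulAction.exists_smul_eq G P R
    refine mem_sup_right (mem_iSup_of_mem z ⟨(P : Subgroup G).mul_mem
      ((P : Subgroup G).inv_mem ha.1) ((mem_normalizer_iff.1 hx a).1 ha).1, ?_⟩)
    rw [map_commutator]
    have h1 : x ∈ (P : Subgroup G).map (MulAut.conj z).toMonoidHom :=
      hR (mem_sup_left (mem_zpowers x))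
    have h2 : a⁻¹ ∈ (P : Subgroup G).map (MulAut.conj z).toMonoidHom :=
      inv_mem (hR (mem_sup_right ha))
    have := commutator_mem_commutator h2 h1
    simpa [commutatorElement_def, mul_assoc] using this
  · rw [conj_smul_le_iff]
    intro x hx
    obtain ⟨n, rfl⟩ := mem_zpowers_iff.1 hx
    have := (P : Subgroup G).zpow_mem hg n
    rwa [conj_zpow] at this

/-- **Thompson's transfer lemma**: if `M` has index `2·odd` and the involution `t` is not
conjugate into `M`, then `G` has a normal subgroup of index `2` missing `t`. -/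
theorem thompson_transfer {M : Subgroup G} (hM : Odd (M.index / 2)) {t : G} (ht : t ^ 2 = 1)
    (h : ∀ g : G, g⁻¹ * t * g ∉ M) : ∃ N : Subgroup G, N.Normal ∧ N.index = 2 ∧ t ∉ N := by
  classical
  have := Fintype.ofFinite (G ⧸ M)
  let f : G →* ℤˣ := (Equiv.Perm.sign).comp (MulAction.toPermHom G (G ⧸ M))
  have hft : f t = -1 := by
    have h2 : (MulAction.toPermHom G (G ⧸ M) t) ^ 2 = 1 := by rw [← map_pow, ht, map_one]
    have h0 : Fintype.card (Function.fixedPoints (MulAction.toPermHom G (G ⧸ M) t)) = 0 := by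
      rw [Fintype.card_eq_zero_iff]
      refine ⟨fun ⟨q, hq⟩ => ?_⟩
      induction q using QuotientGroup.induction_on with | H g => ?_
      have hq' : ((t * g : G) : G ⧸ M) = (g : G ⧸ M) := hq
      have := QuotientGroup.eq.1 hq'.symm
      exact h g (by simpa [mul_assoc] using this)
    simp only [f, MonoidHom.comp_apply]
    rw [Equiv.Perm.sign_of_pow_two_eq_one h2, h0, Nat.sub_zero, ← Nat.card_eq_fintype_card]
    exact Odd.neg_one_pow hM
  refine ⟨f.ker, inferInstance, ?_, ?_⟩
  · rw [index_ker]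
    have : f.range = ⊤ := by
      rw [eq_top_iff]
      intro u _
      rcases Int.units_eq_one_or u with rfl | rfl
      · exact one_mem _
      · exact ⟨t, hft⟩
    rw [this, card_top, Nat.card_eq_fintype_card, Fintype.card_units_int]
  · rw [MonoidHom.mem_ker, hft]; decide

/-- Thompson's transfer lemma for a subgroup of index `2` in a Sylow `2`-subgroup. -/
theorem thompson_transfer_sylow (P : Sylow 2 G) {M : Subgroup G} (hMP : M ≤ P)
    (hM : M.relIndex P = 2) {t : G} (ht : t ^ 2 = 1) (h : ∀ g : G, g⁻¹ * t * g ∉ M) :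
    ∃ N : Subgroup G, N.Normal ∧ N.index = 2 ∧ t ∉ N := by
  refine thompson_transfer ?_ ht h
  rw [← relIndex_mul_index hMP, hM, Nat.mul_div_cancel_left _ two_pos]
  exact Nat.odd_iff.2 (Nat.two_dvd_ne_zero.1 P.not_dvd_index)

/-- `p`-nilpotence lifts over a normal `p`-subgroup contained in the Frattini subgroup. -/
theorem hasNormalPComplement_of_quotient_le_frattini (D : Subgroup G) [D.Normal]
    (hD : IsPGroup p D) (hF : D ≤ frattini G) (h : HasNormalPComplement p (G ⧸ D)) :
    HasNormalPComplement p G := by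
  set K := (pResidual p (G ⧸ D)).comap (QuotientGroup.mk' D) with hK
  have hDK : D ≤ K := by
    intro d hd
    rw [hK, mem_comap, QuotientGroup.mk'_apply, (QuotientGroup.eq_one_iff d).2 hd]
    exact one_mem _
  have hrel : D.relIndex K = Nat.card (pResidual p (G ⧸ D)) := by
    have := relIndex_ker K (QuotientGroup.mk' D)
    rw [QuotientGroup.ker_mk', hK,
      map_comap_eq_self_of_surjective (QuotientGroup.mk'_surjective D)] at this
    exact this
  have hcop : (D.relIndex K).Coprime p := by
    rw [hrel]; exact hasNormalPComplement_iff_coprime_pResidual.1 h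
  obtain ⟨k, hk⟩ := hD.exists_card_eq
  have hcop' : (Nat.card D).Coprime (D.relIndex K) := by
    rw [hk]; exact (hcop.symm).pow_left k
  obtain ⟨H, hHK, hsup, -, hcard⟩ := Coprime.sz_exists hDK
    (by rw [normalizer_eq_top]; exact le_top) hcop'
  have hN : normalizer (H : Set G) ⊔ D = ⊤ := by
    rw [eq_top_iff]
    intro g _
    have hle : H.map (MulAut.conj g).toMonoidHom ≤ D ⊔ H := by
      rw [hsup, ← Coprime.map_conj_eq_of_normal K g]
      exact map_mono hHK
    obtain ⟨n, hn, hng⟩ := Coprime.sz_eq_conj (N := D) (A := H)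
      (by rw [normalizer_eq_top]; exact le_top) hle (hcard ▸ hcop') (Coprime.card_map_conj H g)
      (Or.inl (by have := hD.isNilpotent; infer_instance))
    have : n⁻¹ * g ∈ normalizer (H : Set G) := by
      rw [← conj_smul_eq_iff_mem_normalizer, ← conj_smul_conj_smul, conj_smul_eq_map g, hng,
        ← conj_smul_eq_map, conj_inv_smul_conj_smul]
    have h2 : g = n * (n⁻¹ * g) := by group
    rw [h2]
    exact mul_mem (mem_sup_right hn) (mem_sup_left this)
  have hHn : H.Normal := normalizer_eq_top_iff.1 (Core.eq_top_of_sup_eq_top_of_le_frattini hF hN)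
  rw [hasNormalPComplement_iff_coprime_pResidual]
  refine Nat.Coprime.coprime_dvd_left (card_dvd_of_le (K := H) ?_) (hcard ▸ hcop)
  refine (closure_le _).2 fun g hg => ?_
  have hgK : g ∈ D ⊔ H := by
    rw [hsup]
    exact mem_pResidual_of_coprime
      (Nat.Coprime.coprime_dvd_left (orderOf_map_dvd (QuotientGroup.mk' D) g) hg)
  obtain ⟨d, hd, x, hx, rfl⟩ := (mem_sup_of_normal_left).1 hgK
  have h1 : (QuotientGroup.mk' H (d * x)) = QuotientGroup.mk' H d := by
    rw [map_mul, QuotientGroup.mk'_apply H x, (QuotientGroup.eq_one_iff x).2 hx, mul_one]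
  obtain ⟨j, hj⟩ := hD ⟨d, hd⟩
  have hj' : d ^ p ^ j = 1 := congrArg Subtype.val hj
  have : QuotientGroup.mk' H (d * x) = 1 :=
    eq_one_of_coprime_of_pow_pow (k := j)
      (Nat.Coprime.coprime_dvd_left (orderOf_map_dvd (QuotientGroup.mk' H) _) hg)
      (by rw [h1, ← map_pow, hj', map_one])
  exact (QuotientGroup.eq_one_iff _).1 this

end Cfsg.Agent.Transfer
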