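import Mathlib
import Cfsg.Agent.Lib.Core.PCore
import Cfsg.Agent.Lib.Cls.Basic
import Cfsg.Agent.Lib.PGrp.Omega
import Cfsg.Agent.Lib.PGrp.ClassTwo
import Cfsg.Agent.Lib.PGrp.ElemAb
import Cfsg.Agent.Lib.Transfer.Basic2

/-!
# `p`-by-cyclic subgroups, rotation subgroups of dihedral groups, recognition of `A₄`
-/

set_option autoImplicit false
set_option linter.unusedSectionVars false

namespace Cfsg.Agent.Transfer

open Cfsg Subgroup
open scoped Pointwise

variable {G : Type*} [Group G] [Finite G] {p : ℕ} [hp : Fact p.Prime]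

theorem pByCyclic_of_coprime {T : Subgroup G} (hT : IsPGroup p T) {y : G}
    (hy : y ∈ normalizer (T : Set G)) (hyp : (orderOf y).Coprime p) :
    (∀ S : Sylow p ↥(T ⊔ zpowers y), (S : Subgroup ↥(T ⊔ zpowers y)).Normal) ∧
      ∀ (S : Sylow p ↥(T ⊔ zpowers y)) [(S : Subgroup ↥(T ⊔ zpowers y)).Normal],
        IsCyclic (↥(T ⊔ zpowers y) ⧸ (S : Subgroup ↥(T ⊔ zpowers y))) := by
  have hn : T ⊔ zpowers y ≤ normalizer (T : Set G) := sup_le le_normalizer (zpowers_le.2 hy)
  have hS : IsSylowIn p T (T ⊔ zpowers y) := by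
    refine ⟨le_sup_left, hT, fun hd => ?_⟩
    have h1 := Core.card_sup_dvd_of_le_normalizer (zpowers_le.2 hy)
    rw [sup_comm, ← Core.card_mul_relIndex_of_le (le_sup_left : T ≤ T ⊔ zpowers y), mul_comm,
      Nat.card_zpowers] at h1
    have h2 := hd.trans (Nat.dvd_of_mul_dvd_mul_right Nat.card_pos h1)
    exact (hp.out.coprime_iff_not_dvd.1 hyp.symm) h2
  have hTn : (hS.toSylow : Subgroup ↥(T ⊔ zpowers y)).Normal :=
    Core.normal_subgroupOf_of_le_normalizer hn
  have huniq := Sylow.unique_of_normal hS.toSylow hTn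
  have heq : ∀ S : Sylow p ↥(T ⊔ zpowers y), S = hS.toSylow := fun S => Subsingleton.elim _ _
  refine ⟨fun S => heq S ▸ hTn, fun S _ => ?_⟩
  refine ⟨⟨((⟨y, mem_sup_right (mem_zpowers y)⟩ : ↥(T ⊔ zpowers y)) : _ ⧸ _), fun q => ?_⟩⟩
  obtain ⟨⟨x, hx⟩, rfl⟩ := QuotientGroup.mk_surjective q
  obtain ⟨t, ht, k, rfl⟩ := (PGrp.mem_sup_zpowers_iff hy).1 hx
  refine ⟨k, ?_⟩
  simp only
  rw [← QuotientGroup.mk_zpow, eq_comm, QuotientGroup.eq_iff_div_mem, heq S]
  change _ ∈ T
  simpa [div_eq_mul_inv] using ht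

theorem pByCyclic_of_mem_normalizer {A : Subgroup G} (hA : IsPGroup p A) {x : G}
    (hx : x ∈ normalizer (A : Set G)) :
    (∀ S : Sylow p ↥(A ⊔ zpowers x), (S : Subgroup ↥(A ⊔ zpowers x)).Normal) ∧
      ∀ (S : Sylow p ↥(A ⊔ zpowers x)) [(S : Subgroup ↥(A ⊔ zpowers x)).Normal],
        IsCyclic (↥(A ⊔ zpowers x) ⧸ (S : Subgroup ↥(A ⊔ zpowers x))) := by
  obtain ⟨u, hu, v, hv, huv, ⟨k, hk⟩, hvp⟩ := Cls.exists_p_part hp.out x
  have h1 : A ⊔ zpowers x = (A ⊔ zpowers u) ⊔ zpowers v := by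
    refine le_antisymm (sup_le (le_sup_left.trans le_sup_left) (zpowers_le.2 ?_))
      (sup_le (sup_le_sup_left (zpowers_le.2 hu) _) ((zpowers_le.2 hv).trans le_sup_right))
    rw [huv]
    exact mul_mem (mem_sup_left (mem_sup_right (mem_zpowers u))) (mem_sup_right (mem_zpowers v))
  rw [h1]
  refine pByCyclic_of_coprime ?_ ?_ hvp
  · exact hA.to_sup_of_normal_left' (Core.isPGroup_zpowers_of_orderOf hk)
      (zpowers_le.2 (zpowers_le.2 hx hu))
  · refine zpowers_le.1 (Core.le_normalizer_sup (zpowers_le.2 (zpowers_le.2 hx hv))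
      (zpowers_le.2 (PGrp.mem_normalizer_zpowers_of_commute ?_)))
    exact Cls.commute_of_mem_zpowers hu hv

theorem exists_of_pByCyclic {H : Subgroup G} (h1 : ∀ S : Sylow p H, (S : Subgroup H).Normal)
    (h2 : ∀ (S : Sylow p H) [(S : Subgroup H).Normal], IsCyclic (H ⧸ (S : Subgroup H))) :
    ∃ (T : Subgroup G) (y : G), IsPGroup p T ∧ y ∈ normalizer (T : Set G) ∧
      (orderOf y).Coprime p ∧ T ⊔ zpowers y = H := by
  let S : Sylow p H := default
  have := h1 S
  obtain ⟨q, hq⟩ := (h2 S).exists_generator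
  obtain ⟨x, rfl⟩ := QuotientGroup.mk_surjective q
  obtain ⟨y, -, hy, hyp⟩ := Cls.exists_coprime_lift (n := p) (QuotientGroup.mk' (S : Subgroup H)) x
    (Nat.Coprime.coprime_dvd_left (orderOf_dvd_natCard _)
      ((Nat.Prime.coprime_iff_not_dvd hp.out).2 S.not_dvd_index).symm)
  refine ⟨(S : Subgroup H).map H.subtype, y, S.2.map _,
    Core.le_normalizer_map_subtype H _ y.2, by rwa [orderOf_coe], le_antisymm
      (sup_le (map_subtype_le _) (zpowers_le.2 y.2)) fun g hg => ?_⟩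
  obtain ⟨k, hk⟩ := hq ((⟨g, hg⟩ : H) : H ⧸ (S : Subgroup H))
  simp only at hk
  have hy' : (x : H ⧸ (S : Subgroup H)) = y := hy.symm
  rw [hy', ← QuotientGroup.mk_zpow, eq_comm, QuotientGroup.eq_iff_div_mem] at hk
  have h3 : g = ((⟨g, hg⟩ / y ^ k : H) : G) * (y : G) ^ k := by simp
  rw [h3]
  exact mul_mem (mem_sup_left (mem_map_of_mem _ hk)) (mem_sup_right (zpow_mem_zpowers _ _))

theorem isCyclic_sup_zpowers {T : Subgroup G} (hT : IsPGroup p T) (hc : IsCyclic T) {y : G}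
    (hy : y ∈ centralizer (T : Set G)) (hyp : (orderOf y).Coprime p) :
    IsCyclic ↥(T ⊔ zpowers y) := by
  obtain ⟨s, rfl⟩ := (Subgroup.isCyclic_iff_exists_zpowers_eq_top T).1 hc
  have hcomm : Commute s y := mem_centralizer_iff.1 hy s (mem_zpowers s)
  obtain ⟨k, hk⟩ := hT.exists_card_eq
  rw [Nat.card_zpowers] at hk
  have hcop : (orderOf s).Coprime (orderOf y) := hk ▸ hyp.symm.pow_left k
  have : zpowers s ⊔ zpowers y = zpowers (s * y) := le_antisymm
    (sup_le (zpowers_le.2 (Cls.mem_zpowers_mul_left hcomm hcop))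
      (zpowers_le.2 (Cls.mem_zpowers_mul_right hcomm hcop)))
    (zpowers_le.2 (mul_mem (mem_sup_left (mem_zpowers s)) (mem_sup_right (mem_zpowers y))))
  rw [this]
  infer_instance

theorem dihedral_of_inverts {T : Subgroup G} (hc : IsCyclic T) {y : G} (hyT : y ∉ T)
    (hy : y ^ 2 = 1) (hinv : ∀ t ∈ T, y * t * y⁻¹ = t⁻¹) :
    Nonempty (↥(T ⊔ zpowers y) ≃* DihedralGroup (Nat.card T)) := by
  have hn : y ∈ normalizer (T : Set G) :=
    mem_normalizer_of_conj_mem fun t ht => by rw [hinv t ht]; exact inv_mem ht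
  have hcard := PGrp.card_sup_zpowers (p := 2) hn hyT (by rw [hy]; exact one_mem _)
  obtain ⟨s, rfl⟩ := (Subgroup.isCyclic_iff_exists_zpowers_eq_top T).1 hc
  refine PGrp.nonempty_mulEquiv_dihedral (x := ⟨s, mem_sup_left (mem_zpowers s)⟩)
    (y := ⟨y, mem_sup_right (mem_zpowers y)⟩) ?_ (by rw [hcard, mul_comm]) ?_ (Subtype.ext hy)
    (Subtype.ext (hinv s (mem_zpowers s)))
  · rw [← orderOf_coe, Nat.card_zpowers]
  · rintro ⟨k, hk⟩
    exact hyT ⟨k, congrArg Subtype.val hk⟩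

theorem exists_rotation {H : Subgroup G} {m : ℕ} (e : H ≃* DihedralGroup m) :
    ∃ R : Subgroup G, R ≤ H ∧ IsCyclic R ∧ Nat.card R = m ∧ Nat.card H = 2 * m ∧
      ∀ h ∈ H, h ∉ R → orderOf h = 2 ∧ ∀ r ∈ R, h * r * h⁻¹ = r⁻¹ := by
  let φ := H.subtype.comp e.symm.toMonoidHom
  have hφ : Function.Injective φ := (subtype_injective _).comp e.symm.injective
  have hc : Nat.card H = 2 * m := by rw [Nat.card_congr e.toEquiv, DihedralGroup.nat_card]
  have : NeZero m := ⟨by rintro rfl; exact Nat.card_pos.ne' hc⟩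
  refine ⟨zpowers (φ (.r 1)), zpowers_le.2 (e.symm _).2, inferInstance, ?_, hc, fun h hh hR => ?_⟩
  · rw [Nat.card_zpowers, orderOf_injective φ hφ, DihedralGroup.orderOf_r_one]
  · have h1 : h = φ (e ⟨h, hh⟩) := by simp [φ]
    rcases hd : e ⟨h, hh⟩ with k | k
    · refine absurd ?_ hR
      rw [h1, hd, ← MonoidHom.map_zpowers]
      exact mem_map_of_mem φ ⟨k.val, by
        simp only [zpow_natCast, DihedralGroup.r_one_pow, ZMod.natCast_zmod_val]⟩
    · rw [h1, hd]
      refine ⟨by rw [orderOf_injective φ hφ, DihedralGroup.orderOf_sr], ?_⟩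
      rintro _ ⟨n, rfl⟩
      simp only
      rw [← map_zpow, ← map_inv, ← map_inv, ← map_mul, ← map_mul, DihedralGroup.r_one_zpow]
      simp

/-- An odd-order element normalizing a cyclic `2`-group centralizes it. -/
theorem mem_centralizer_of_isCyclic_two {T : Subgroup G} (hT : IsPGroup 2 T) (hc : IsCyclic T)
    {y : G} (hy : y ∈ normalizer (T : Set G)) (hyp : (orderOf y).Coprime 2) :
    y ∈ centralizer (T : Set G) := by
  refine mem_centralizer_of_omega hT inferInstance hyp hy fun w hw hw2 => ?_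
  by_cases hw1 : w = 1
  · simp [hw1]
  have h1 : y * w * y⁻¹ ∈ T := (mem_normalizer_iff.1 hy w).1 hw
  classical
  have := Fintype.ofFinite T
  have h2 := IsCyclic.card_orderOf_eq_totient (α := T) (d := 2) (by
    rw [← Nat.card_eq_fintype_card, ← orderOf_eq_prime hw2 hw1]
    exact orderOf_dvd_natCard T hw)
  rw [Nat.totient_two, Finset.card_eq_one] at h2
  obtain ⟨a, ha⟩ := h2
  have h3 : ∀ b : T, orderOf (b : G) = 2 → b = a := fun b hb => by
    rw [← Finset.mem_singleton, ← ha]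
    simpa using hb
  have h4 := (h3 ⟨_, h1⟩ (by
    change orderOf (y * w * y⁻¹) = 2
    rw [← MulAut.conj_apply, MulEquiv.orderOf_eq, orderOf_eq_prime hw2 hw1])).trans
    (h3 ⟨w, hw⟩ (orderOf_eq_prime hw2 hw1)).symm
  exact (mul_inv_eq_iff_eq_mul.1 (congrArg Subtype.val h4)).symm

/-- A group of order `12` with a non-normal subgroup of order `3` is `A₄`. -/
theorem nonempty_mulEquiv_alternating_four (hG : Nat.card G = 12) {Y : Subgroup G}
    (hY : Nat.card Y = 3) (hn : ¬ Y.Normal) : Nonempty (G ≃* alternatingGroup (Fin 4)) := by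
  classical
  have hi : Nat.card (G ⧸ Y) = 4 := by
    have := Y.card_mul_index
    rw [hY, hG] at this
    change Y.index = 4
    omega
  let e : G ⧸ Y ≃ Fin 4 := Finite.equivFinOfCardEq hi
  let f : G →* Equiv.Perm (Fin 4) :=
    (e.permCongrHom : Equiv.Perm (G ⧸ Y) ≃* Equiv.Perm (Fin 4)).toMonoidHom.comp
      (MulAction.toPermHom G (G ⧸ Y))
  have hf : Function.Injective f := by
    refine e.permCongrHom.injective.comp ?_
    rw [← MonoidHom.ker_eq_bot_iff, ← normalCore_eq_ker]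
    have : Fact (Nat.card Y).Prime := ⟨by rw [hY]; norm_num⟩
    rcases (Y.normalCore.subgroupOf Y).eq_bot_or_eq_top_of_prime_card with h | h
    · rwa [subgroupOf_eq_bot, disjoint_iff, inf_eq_left.2 Y.normalCore_le] at h
    · rw [subgroupOf_eq_top] at h
      exact absurd ((le_antisymm Y.normalCore_le h) ▸ Y.normalCore_normal) hn
  have hr : f.range = alternatingGroup (Fin 4) := by
    refine Equiv.Perm.eq_alternatingGroup_of_index_eq_two ?_
    have h1 := f.range.card_mul_index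
    rw [← Nat.card_congr (MonoidHom.ofInjective hf).toEquiv, hG, Nat.card_perm] at h1
    simp [Nat.factorial] at h1
    omega
  exact ⟨(MonoidHom.ofInjective hf).trans (MulEquiv.subgroupCongr hr)⟩

end Cfsg.Agent.Transfer
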