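import Mathlib
import Cfsg.Prelude.Def_BaumannBlocks
import Cfsg.Agent.Lib.PGrp.Basic
import Cfsg.Agent.Lib.Coprime.SZ
import Cfsg.Agent.Lib.Transfer.MinNonNilp

/-!
# The Hall–Wielandt transfer theorem
-/

set_option autoImplicit false
set_option linter.unusedSectionVars false

namespace Cfsg.Agent.Transfer

open Cfsg Subgroup
open scoped Pointwise

/-- A sum over a finite set stable under `ρ` vanishes if all orbit sums vanish. -/
theorem sum_eq_zero_of_orbit_sums {Ω A : Type*} [AddCommMonoid A] (ρ : Ω → Ω) (f : Ω → A)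
    (s : Finset Ω) : (∀ ω ∈ s, ρ ω ∈ s) → (∀ ω ∈ s, ω ∈ Function.periodicPts ρ) →
    (∀ ω ∈ s, ∑ i ∈ Finset.range (Function.minimalPeriod ρ ω), f (ρ^[i] ω) = 0) →
    ∑ ω ∈ s, f ω = 0 := by
  classical
  induction s using Finset.strongInduction with | H s ih => ?_
  intro h1 h2 h3
  rcases s.eq_empty_or_nonempty with rfl | ⟨ω, hω⟩
  · simp
  have hpos := Function.minimalPeriod_pos_of_mem_periodicPts (h2 ω hω)
  set O := (Finset.range (Function.minimalPeriod ρ ω)).image fun i => ρ^[i] ω with hO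
  have hit : ∀ i, ρ^[i] ω ∈ s := fun i => by
    induction i with
    | zero => exact hω
    | succ i ihi => rw [Function.iterate_succ_apply']; exact h1 _ ihi
  have hOs : O ⊆ s := by
    intro x hx
    obtain ⟨i, -, rfl⟩ := Finset.mem_image.1 hx
    exact hit i
  have hOm : ∀ i, ρ^[i] ω ∈ O := fun i =>
    Finset.mem_image.2 ⟨i % Function.minimalPeriod ρ ω, Finset.mem_range.2 (Nat.mod_lt _ hpos),
      Function.iterate_mod_minimalPeriod_eq⟩
  have hsum : ∑ x ∈ O, f x = 0 := by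
    rw [hO, Finset.sum_image]
    · exact h3 ω hω
    · intro i hi j hj hij
      exact Function.iterate_injOn_Iio_minimalPeriod (by simpa using hi) (by simpa using hj) hij
  rw [← Finset.sum_sdiff hOs, hsum, add_zero]
  refine ih _ (Finset.sdiff_ssubset hOs ⟨ω, hOm 0⟩) (fun x hx => ?_)
    (fun x hx => h2 x (Finset.mem_sdiff.1 hx).1) (fun x hx => h3 x (Finset.mem_sdiff.1 hx).1)
  obtain ⟨hx1, hx2⟩ := Finset.mem_sdiff.1 hx
  refine Finset.mem_sdiff.2 ⟨h1 x hx1, fun hx3 => hx2 ?_⟩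
  obtain ⟨i, -, hi⟩ := Finset.mem_image.1 hx3
  obtain ⟨m, hm, hxm⟩ := h2 x hx1
  obtain ⟨m, rfl⟩ := Nat.exists_eq_succ_of_ne_zero hm.ne'
  have : x = ρ^[m + i] ω := by
    rw [Function.iterate_add_apply, hi, ← Function.iterate_succ_apply]; exact hxm.symm
  rw [this]
  exact hOm _

theorem cast_choose_sub_one {p : ℕ} [hp : Fact p.Prime] (k : ℕ) (hk : k < p) :
    (((p - 1).choose k : ℕ) : ZMod p) = (-1) ^ k := by
  induction k with
  | zero => simp
  | succ k ih =>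
    have h1 : (p - 1).choose k + (p - 1).choose (k + 1) = p.choose (k + 1) := by
      rw [← Nat.choose_succ_succ', Nat.sub_add_cancel hp.out.one_lt.le]
    have h2 : ((p.choose (k + 1) : ℕ) : ZMod p) = 0 :=
      (ZMod.natCast_eq_zero_iff _ _).2 (hp.out.dvd_choose_self (Nat.succ_ne_zero k) hk)
    rw [← h1, Nat.cast_add, ih (by omega)] at h2
    rw [pow_succ, mul_neg_one]
    exact eq_neg_of_add_eq_zero_right h2

theorem fwdDiff_iter_sub_one {p : ℕ} [hp : Fact p.Prime] (f : ℕ → ZMod p) :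
    (fwdDiff 1)^[p - 1] f 0 = ∑ k ∈ Finset.range p, f k := by
  rw [fwdDiff_iter_eq_sum_shift, Nat.sub_add_cancel hp.out.one_lt.le]
  refine Finset.sum_congr rfl fun k hk => ?_
  have hk' := Finset.mem_range.1 hk
  rw [zsmul_eq_mul]
  push_cast
  rw [cast_choose_sub_one k hk', ← pow_add, Nat.sub_add_cancel (by omega),
    ZMod.pow_card_sub_one_eq_one (by simp)]
  simp

variable {G : Type*} [Group G] [Finite G] {p : ℕ} [hp : Fact p.Prime]

/-- A nontrivial normal subgroup of a `p`-group carries a nonzero invariant additive character. -/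
theorem exists_invariant_character (hG : IsPGroup p G) {N : Subgroup G} [N.Normal] (hN : N ≠ ⊥) :
    ∃ Ψ : G → ZMod p, (∀ x ∈ N, ∀ y ∈ N, Ψ (x * y) = Ψ x + Ψ y) ∧
      (∀ x ∈ N, ∀ h, Ψ (h⁻¹ * x * h) = Ψ x) ∧ ∃ x ∈ N, Ψ x ≠ 0 := by
  classical
  obtain ⟨M, hMn, -, hMN, hcard⟩ := PGrp.exists_normal_relIndex_eq' hG (bot_lt_iff_ne_bot.2 hN)
  let π := QuotientGroup.mk' M
  let Z := N.map π
  have hZn : Z.Normal := Normal.map inferInstance _ (QuotientGroup.mk'_surjective M)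
  have hZ : Nat.card Z = p := by
    have := PGrp.card_map_mk'_mul M N
    rw [sup_eq_left.2 hMN, ← hcard, mul_comm] at this
    exact Nat.eq_of_mul_eq_mul_left Nat.card_pos this
  have hZc : Z ≤ center _ := PGrp.le_center_of_card_eq_prime (hG.to_quotient M) hZ
  let e : Z ≃* Multiplicative (ZMod p) := mulEquivOfPrimeCardEq hZ (by simp)
  refine ⟨fun x => if hx : π x ∈ Z then (e ⟨π x, hx⟩).toAdd else 0, fun x hx y hy => ?_,
    fun x hx h => ?_, ?_⟩
  · have h1 : π x ∈ Z := mem_map_of_mem π hx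
    have h2 : π y ∈ Z := mem_map_of_mem π hy
    have h3 : π (x * y) ∈ Z := mem_map_of_mem π (N.mul_mem hx hy)
    simp only [dif_pos h1, dif_pos h2, dif_pos h3]
    rw [← toAdd_mul, ← map_mul]
    congr 2
  · have h1 : π (h⁻¹ * x * h) = π x := by
      rw [map_mul, map_mul, mem_center_iff.1 (hZc (mem_map_of_mem π hx)), mul_assoc, ← map_mul,
        inv_mul_cancel, map_one, mul_one]
    simp only [h1]
  · obtain ⟨⟨_, x, hx, rfl⟩, hz⟩ := e.surjective (Multiplicative.ofAdd 1)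
    refine ⟨x, hx, ?_⟩
    have h1 : π x ∈ Z := mem_map_of_mem π hx
    simp only [dif_pos h1]
    rw [hz]
    simp

theorem exists_mem_normalizer_pow_mem {P Q S : Subgroup G} (hP : IsPGroup p P) (hQP : Q ≤ P)
    (hPQ : P ≤ normalizer (Q : Set G)) (hS : S ≤ P) (hQS : ¬ Q ≤ S) :
    ∃ z ∈ Q, z ∈ normalizer (S : Set G) ∧ z ∉ S ∧ z ^ p ∈ S := by
  have h1 : S < S ⊔ Q := left_lt_sup.2 hQS
  obtain ⟨y, ⟨hy1, hy2⟩, hy3⟩ := SetLike.exists_of_lt
    (lt_inf_normalizer_of_lt (hP.to_le (sup_le hS hQP)) h1)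
  obtain ⟨s, hs, z, hz, rfl⟩ := (Coprime.mem_sup_of_le_normalizer' (hS.trans hPQ)).1 hy1
  have hzN : z ∈ normalizer (S : Set G) := by
    have := (normalizer (S : Set G)).mul_mem (inv_mem (le_normalizer hs)) hy2
    simpa using this
  have hzS : z ∉ S := fun h => hy3 (S.mul_mem hs h)
  obtain ⟨k, hk⟩ := hP ⟨z, hQP hz⟩
  have hk' : z ^ p ^ k = 1 := congrArg Subtype.val hk
  obtain ⟨j, hj1, hj2⟩ := exists_pow_pow_not_mem (C := S) (q := p) (k := k)
    (by rw [hk']; exact one_mem _) hzS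
  exact ⟨z ^ p ^ j, pow_mem hz _, pow_mem hzN _, hj1, hj2⟩

theorem sylow_le_normalizer_of_isWeaklyClosed {P Q : Subgroup G} (hQ : IsWeaklyClosed Q P) :
    P ≤ normalizer (Q : Set G) := fun g hg => by
  rw [← conj_smul_eq_iff_mem_normalizer, conj_smul_eq_map]
  refine hQ.2 g ?_
  rw [← conj_smul_eq_map, conj_smul_le_iff]
  exact fun x hx => P.mul_mem (P.mul_mem hg (hQ.1 hx)) (P.inv_mem hg)

theorem mem_normalizer_of_isWeaklyClosed (P : Sylow p G) {Q : Subgroup G}
    (hQ : IsWeaklyClosed Q (P : Subgroup G)) {g : G}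
    (hg : MulAut.conj g • Q ≤ normalizer (Q : Set G)) : g ∈ normalizer (Q : Set G) := by
  obtain ⟨n, hn, hle⟩ := (isSylowIn_of_sylow_le P
    (sylow_le_normalizer_of_isWeaklyClosed hQ)).exists_conj_le
    (isPGroup_conj_smul g (P.2.to_le hQ.1)) hg
  rw [conj_smul_conj_smul, conj_smul_eq_map] at hle
  have := hQ.2 _ hle
  rw [← conj_smul_eq_map, conj_smul_eq_iff_mem_normalizer] at this
  simpa using (normalizer (Q : Set G)).mul_mem (inv_mem hn) this

section Aux

variable {H K : Subgroup G} {Φ : G → ZMod p}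

theorem addChar_one (h1 : ∀ x ∈ H, ∀ y ∈ H, Φ (x * y) = Φ x + Φ y) : Φ 1 = 0 := by
  have := h1 1 (one_mem _) 1 (one_mem _)
  rw [mul_one] at this
  exact left_eq_add.1 this

theorem addChar_pow (h1 : ∀ x ∈ H, ∀ y ∈ H, Φ (x * y) = Φ x + Φ y) {x : G} (hx : x ∈ H) (n : ℕ) :
    Φ (x ^ n) = n * Φ x := by
  induction n with
  | zero => simp [addChar_one h1]
  | succ n ih => rw [pow_succ, h1 _ (pow_mem hx n) _ hx, ih]; push_cast; ring

/-- The transfer of an invariant character of `H ∩ K`, written as a sum over `G ⧸ H`. -/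
theorem transfer_sum_eq_zero [Fintype (G ⧸ H)]
    (h1 : ∀ x ∈ H ⊓ pResidual p G, ∀ y ∈ H ⊓ pResidual p G, Φ (x * y) = Φ x + Φ y)
    (t : G ⧸ H → G) (ht : ∀ ω, t ω ∈ pResidual p G) (ht' : ∀ ω, (t ω : G ⧸ H) = ω)
    {x : G} (hx : x ∈ pResidual p G) : ∑ ω, Φ ((t (x • ω))⁻¹ * x * t ω) = 0 := by
  have hmem : ∀ x ∈ pResidual p G, ∀ ω, (t (x • ω))⁻¹ * x * t ω ∈ H ⊓ pResidual p G := by
    intro x hx ω
    refine mem_inf.2 ⟨?_, mul_mem (mul_mem (inv_mem (ht _)) hx) (ht _)⟩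
    rw [mul_assoc]
    refine QuotientGroup.eq.1 ?_
    rw [ht']
    conv_lhs => rw [← ht' ω]
    rfl
  let V : pResidual p G →* Multiplicative (ZMod p) := MonoidHom.mk'
    (fun x => Multiplicative.ofAdd (∑ ω, Φ ((t ((x : G) • ω))⁻¹ * x * t ω))) (by
      intro x y
      rw [← ofAdd_add]
      congr 1
      rw [← Equiv.sum_comp (MulAction.toPerm (y : G)) (fun ω => Φ ((t ((x : G) • ω))⁻¹ * x * t ω)),
        ← Finset.sum_add_distrib]
      refine Finset.sum_congr rfl fun ω _ => ?_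
      rw [MulAction.toPerm_apply, ← h1 _ (hmem x x.2 _) _ (hmem y y.2 _), coe_mul, mul_smul]
      congr 1
      group)
  have hV := pResidual_le_ker V (IsPGroup.of_card (p := p) (n := 1) (by simp))
  rw [pResidual_pResidual] at hV
  exact hV (mem_top ⟨x, hx⟩)

end Aux

theorem hallWielandt_aux (P : Sylow p G) {Q : Subgroup G}
    (hQ : IsWeaklyClosed Q (P : Subgroup G))
    (h : ∀ u ∈ (P : Subgroup G), ∀ z ∈ Q, (fun y : G => y⁻¹ * z⁻¹ * y * z)^[p - 1] u = 1)
    {Φ : G → ZMod p}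
    (h1 : ∀ x ∈ normalizer (Q : Set G) ⊓ pResidual p G,
      ∀ y ∈ normalizer (Q : Set G) ⊓ pResidual p G, Φ (x * y) = Φ x + Φ y)
    (h2 : ∀ x ∈ normalizer (Q : Set G) ⊓ pResidual p G, ∀ h ∈ normalizer (Q : Set G),
      Φ (h⁻¹ * x * h) = Φ x) {u : G} (huP : u ∈ (P : Subgroup G)) (huK : u ∈ pResidual p G)
    (hmin : ∀ v ∈ normalizer (Q : Set G) ⊓ pResidual p G, (∃ k, v ^ p ^ k = 1) →
      orderOf v < orderOf u → Φ v = 0) : Φ u = 0 := by
  classical
  set H := normalizer (Q : Set G) with hH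
  set K := pResidual p G with hK
  have hKn : K.Normal := pResidual_normal p G
  have hPH : (P : Subgroup G) ≤ H := sylow_le_normalizer_of_isWeaklyClosed hQ
  have := Fintype.ofFinite (G ⧸ H)
  have hex : ∀ ω : G ⧸ H, ∃ k ∈ K, (k : G ⧸ H) = ω := by
    intro ω
    induction ω using QuotientGroup.induction_on with | H g => ?_
    have hg : g ∈ K ⊔ (P : Subgroup G) := by rw [pResidual_sup_sylow]; exact mem_top g
    obtain ⟨k, hk, y, hy, rfl⟩ := mem_sup_of_normal_left.1 hg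
    exact ⟨k, hk, QuotientGroup.eq.2 (by simpa using hPH hy)⟩
  choose t ht ht' using hex
  have hsm : ∀ (x g : G), x • (g : G ⧸ H) = ((x * g : G) : G ⧸ H) := fun _ _ => rfl
  have hmem : ∀ x ∈ K, ∀ ω, (t (x • ω))⁻¹ * x * t ω ∈ H ⊓ K := by
    intro x hx ω
    refine mem_inf.2 ⟨?_, mul_mem (mul_mem (inv_mem (ht _)) hx) (ht _)⟩
    rw [mul_assoc]
    refine QuotientGroup.eq.1 ?_
    rw [ht', ← hsm, ht']
  obtain ⟨k, hk⟩ := P.2 ⟨u, huP⟩
  have hk' : u ^ p ^ k = 1 := congrArg Subtype.val hk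
  set c : G ⧸ H → ZMod p := fun ω => Φ ((t (u • ω))⁻¹ * u * t ω) with hc
  have hsum : ∑ ω, c ω = 0 := transfer_sum_eq_zero h1 t ht ht' huK
  -- the non-fixed points
  have hA : ∑ ω ∈ Finset.univ.filter (fun ω : G ⧸ H => ¬ u • ω = ω), c ω = 0 := by
    refine sum_eq_zero_of_orbit_sums (fun ω => u • ω) c _ (fun ω hω => ?_) (fun ω _ => ?_)
      (fun ω hω => ?_)
    · simp only [Finset.mem_filter, Finset.mem_univ, true_and] at hω ⊢
      exact fun h' => hω (MulAction.injective u h')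
    · refine Function.mk_mem_periodicPts (orderOf_pos u) ?_
      rw [Function.IsPeriodicPt, Function.IsFixedPt, smul_iterate_apply, pow_orderOf_eq_one,
        one_smul]
    · simp only [Finset.mem_filter, Finset.mem_univ, true_and] at hω
      have hn : ∀ n, ∑ i ∈ Finset.range n, c ((fun ω => u • ω)^[i] ω) =
          Φ ((t (u ^ n • ω))⁻¹ * u ^ n * t ω) := by
        intro n
        induction n with
        | zero => simp [addChar_one h1]
        | succ n ih =>
          rw [Finset.sum_range_succ, ih, smul_iterate_apply, add_comm, hc]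
          simp only
          rw [← h1 _ (hmem u huK _) _ (hmem _ (pow_mem huK n) _), pow_succ', mul_smul]
          congr 1
          group
      rw [hn]
      set n := Function.minimalPeriod (fun ω => u • ω) ω with hn'
      have hfix : u ^ n • ω = ω := by
        rw [← smul_iterate_apply]; exact Function.iterate_minimalPeriod
      have hdvd : n ∣ orderOf u := Function.IsPeriodicPt.minimalPeriod_dvd (by
        rw [Function.IsPeriodicPt, Function.IsFixedPt, smul_iterate_apply, pow_orderOf_eq_one,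
          one_smul])
      have hn1 : n ≠ 1 := fun h' => hω (Function.minimalPeriod_eq_one_iff_isFixedPt.1 h')
      have hn0 : n ≠ 0 := fun h' => (orderOf_pos u).ne' (by rwa [h', zero_dvd_iff] at hdvd)
      refine hmin _ (hmem _ (pow_mem huK n) _) ⟨k, ?_⟩ ?_
      · rw [hfix]
        have : (t ω)⁻¹ * u ^ n * t ω = (t ω)⁻¹ * u ^ n * (t ω)⁻¹⁻¹ := by rw [inv_inv]
        rw [this, conj_pow, ← pow_mul, mul_comm n, pow_mul, hk']
        simp
      · rw [hfix]
        have : (t ω)⁻¹ * u ^ n * t ω = MulAut.conj (t ω)⁻¹ (u ^ n) := by simp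
        rw [this, MulEquiv.orderOf_eq, orderOf_pow' u hn0, Nat.gcd_eq_right hdvd]
        exact Nat.div_lt_self (orderOf_pos u) (by omega)
  -- the fixed points different from the trivial coset
  let S : G ⧸ H → Subgroup G := fun ω => (P : Subgroup G) ⊓ MulAction.stabilizer G ω
  have hζ : ∀ T : Subgroup G, ∃ z : G, T ≤ P → ¬ Q ≤ T →
      z ∈ Q ∧ z ∈ normalizer (T : Set G) ∧ z ∉ T ∧ z ^ p ∈ T := by
    intro T
    by_cases hT : T ≤ P ∧ ¬ Q ≤ T
    · obtain ⟨z, hz⟩ := exists_mem_normalizer_pow_mem P.2 hQ.1 hPH hT.1 hT.2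
      exact ⟨z, fun _ _ => hz⟩
    · exact ⟨1, fun a b => absurd ⟨a, b⟩ hT⟩
  choose ζ hζ using hζ
  have hSz : ∀ ω, ∀ z ∈ (P : Subgroup G), z ∈ normalizer (S ω : Set G) → S (z • ω) = S ω := by
    intro ω z hzP hz
    ext x
    rw [mem_normalizer_iff''.1 hz x]
    simp only [S, mem_inf, MulAction.mem_stabilizer_iff]
    rw [mul_smul, mul_smul, inv_smul_eq_iff]
    refine and_congr_left fun _ => ⟨fun hx => mul_mem (mul_mem (inv_mem hzP) hx) hzP, fun hx => ?_⟩
    simpa [mul_assoc] using mul_mem (mul_mem hzP hx) (inv_mem hzP)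
  have hcfix : ∀ ω, u • ω = ω → ∀ g : G, (g : G ⧸ H) = ω → c ω = Φ (g⁻¹ * u * g) := by
    intro ω hω g hg
    have h3 := hmem u huK ω
    have h4 : (t ω)⁻¹ * g ∈ H := QuotientGroup.eq.1 (by rw [ht', hg])
    have h5 := h2 _ h3 _ h4
    simp only [hc]
    rw [← h5, hω]
    congr 1
    group
  have hB : ∑ ω ∈ Finset.univ.filter (fun ω : G ⧸ H => u • ω = ω ∧ ¬ Q ≤ S ω), c ω = 0 := by
    have hit : ∀ ω, ¬ Q ≤ S ω → ∀ i, (fun ω => ζ (S ω) • ω)^[i] ω = ζ (S ω) ^ i • ω := by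
      intro ω hω i
      obtain ⟨hz1, hz2, -, -⟩ := hζ (S ω) inf_le_left hω
      induction i with
      | zero => simp
      | succ i ih =>
        rw [Function.iterate_succ_apply', ih, hSz ω _ (pow_mem (hQ.1 hz1) i) (pow_mem hz2 i), pow_succ', mul_smul]
    have hper : ∀ ω, ¬ Q ≤ S ω → Function.IsPeriodicPt (fun ω => ζ (S ω) • ω) p ω := by
      intro ω hω
      rw [Function.IsPeriodicPt, Function.IsFixedPt, hit ω hω]
      exact (hζ (S ω) inf_le_left hω).2.2.2.2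
    refine sum_eq_zero_of_orbit_sums (fun ω => ζ (S ω) • ω) c _ (fun ω hω => ?_) (fun ω hω => ?_)
      (fun ω hω => ?_)
    all_goals simp only [Finset.mem_filter, Finset.mem_univ, true_and] at hω
    · obtain ⟨hz1, hz2, -, -⟩ := hζ (S ω) inf_le_left hω.2
      have h3 := hSz ω _ (hQ.1 hz1) hz2
      have h4 : u ∈ S (ζ (S ω) • ω) := by rw [h3]; exact ⟨huP, hω.1⟩
      simp only [Finset.mem_filter, Finset.mem_univ, true_and]
      exact ⟨h4.2, by rw [h3]; exact hω.2⟩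
    · exact Function.mk_mem_periodicPts hp.out.pos (hper ω hω.2)
    · obtain ⟨hz1, hz2, hz3, -⟩ := hζ (S ω) inf_le_left hω.2
      rw [Function.minimalPeriod_eq_prime (hper ω hω.2) fun h' => hz3 ⟨hQ.1 hz1, h'⟩]
      simp only [hit ω hω.2]
      set z := ζ (S ω) with hz
      let f : G → ℕ → ZMod p := fun v i => Φ ((z ^ i * t ω)⁻¹ * v * (z ^ i * t ω))
      have hfm : ∀ v ∈ S ω ⊓ K, ∀ i : ℕ, (z ^ i * t ω)⁻¹ * v * (z ^ i * t ω) ∈ H ⊓ K := by
        intro v hv i
        refine ⟨?_, by simpa using hKn.conj_mem v hv.2 (z ^ i * t ω)⁻¹⟩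
        have h3 : v ∈ S (z ^ i • ω) := by
          rw [hSz ω _ (pow_mem (hQ.1 hz1) i) (pow_mem hz2 i)]; exact hv.1
        rw [mul_assoc]
        refine QuotientGroup.eq.1 ?_
        rw [← hsm v, ← hsm, ht']
        exact h3.2.symm
      have hE : ∀ v ∈ S ω ⊓ K, v⁻¹ * z⁻¹ * v * z ∈ S ω ⊓ K := by
        intro v hv
        have h3 : z⁻¹ * v * z ∈ S ω ⊓ K :=
          ⟨(mem_normalizer_iff''.1 hz2 v).1 hv.1, by simpa using hKn.conj_mem v hv.2 z⁻¹⟩
        simpa [mul_assoc] using (S ω ⊓ K).mul_mem (inv_mem hv) h3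
      have hΔ : ∀ v ∈ S ω ⊓ K, fwdDiff 1 (f v) = f (v⁻¹ * z⁻¹ * v * z) := by
        intro v hv
        funext i
        rw [fwdDiff, sub_eq_iff_eq_add', ← h1 _ (hfm v hv i) _ (hfm _ (hE v hv) i)]
        simp only [f]
        congr 1
        rw [pow_succ']
        group
      have hΔn : ∀ n, ∀ v ∈ S ω ⊓ K,
          (fwdDiff 1)^[n] (f v) = f ((fun y : G => y⁻¹ * z⁻¹ * y * z)^[n] v) := by
        intro n
        induction n with
        | zero => intro v _; rfl
        | succ n ih =>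
          intro v hv
          rw [Function.iterate_succ_apply, hΔ v hv, ih _ (hE v hv), Function.iterate_succ_apply]
      have h3 := fwdDiff_iter_sub_one (f u)
      rw [hΔn _ u ⟨⟨huP, hω.1⟩, huK⟩, h u huP z hz1] at h3
      have h4 : f 1 0 = 0 := by simp [f, addChar_one h1]
      rw [h4] at h3
      rw [h3]
      refine Finset.sum_congr rfl fun i _ => hcfix _ ?_ _ (by rw [← hsm, ht'])
      have h5 : u ∈ S (z ^ i • ω) := by
        rw [hSz ω _ (pow_mem (hQ.1 hz1) i) (pow_mem hz2 i)]; exact ⟨huP, hω.1⟩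
      exact h5.2
  have hone : ∀ x ∈ H, x • ((1 : G) : G ⧸ H) = ((1 : G) : G ⧸ H) := fun x hx => by
    rw [hsm]; exact QuotientGroup.eq.2 (by simpa using hx)
  have hC : Finset.univ.filter (fun ω : G ⧸ H => u • ω = ω ∧ Q ≤ S ω) = {((1 : G) : G ⧸ H)} := by
    ext ω
    simp only [Finset.mem_filter, Finset.mem_univ, true_and, Finset.mem_singleton]
    refine ⟨fun hω => ?_, ?_⟩
    · induction ω using QuotientGroup.induction_on with | H g => ?_
      refine QuotientGroup.eq.2 ?_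
      rw [mul_one]
      refine mem_normalizer_of_isWeaklyClosed P hQ (conj_smul_le_iff.2 fun x hx => ?_)
      have h3 : ((x * g : G) : G ⧸ H) = g := (hω.2 hx).2
      simpa [mul_assoc] using QuotientGroup.eq.1 h3.symm
    · rintro rfl
      exact ⟨hone u (hPH huP), fun x hx => ⟨hQ.1 hx, hone x (hPH (hQ.1 hx))⟩⟩
  rw [← Finset.sum_filter_add_sum_filter_not Finset.univ (fun ω : G ⧸ H => u • ω = ω), hA, add_zero,
    ← Finset.sum_filter_add_sum_filter_not _ (fun ω : G ⧸ H => Q ≤ S ω), Finset.filter_filter,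
    Finset.filter_filter, hB, add_zero, hC, Finset.sum_singleton,
    hcfix _ (hone u (hPH huP)) 1 rfl] at hsum
  simpa using hsum

/-- **Hall–Wielandt**. -/
theorem hallWielandt (P : Sylow p G) {Q : Subgroup G} (hQ : IsWeaklyClosed Q (P : Subgroup G))
    (h : ∀ u ∈ (P : Subgroup G), ∀ z ∈ Q, (fun y : G => y⁻¹ * z⁻¹ * y * z)^[p - 1] u = 1) :
    pResidualOf p (normalizer (Q : Set G)) = pResidual p G ⊓ normalizer (Q : Set G) := by
  classical
  set H := normalizer (Q : Set G) with hH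
  set K := pResidual p G with hK
  have hKn : K.Normal := pResidual_normal p G
  refine le_antisymm (le_inf (map_subtype_pResidual_le H) (map_subtype_le _)) ?_
  let π := QuotientGroup.mk' (pResidual p H)
  let N := (K.subgroupOf H).map π
  have hNn : N.Normal := Normal.map inferInstance _ (QuotientGroup.mk'_surjective _)
  by_cases hN : N = ⊥
  · intro x hx
    have : π ⟨x, hx.2⟩ ∈ N := mem_map_of_mem π hx.1
    rw [hN, mem_bot] at this
    exact ⟨⟨x, hx.2⟩, (QuotientGroup.eq_one_iff _).1 this, rfl⟩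
  exfalso
  obtain ⟨Ψ, hΨ1, hΨ2, _, ⟨x, hx, rfl⟩, hΨ3⟩ :=
    exists_invariant_character (isPGroup_quotient_pResidual (p := p) (G := H)) hN
  let Φ : G → ZMod p := fun x => if hx : x ∈ H then Ψ (π ⟨x, hx⟩) else 0
  have hΦ : ∀ x : H, Φ x = Ψ (π x) := fun x => dif_pos x.2
  have h1 : ∀ x ∈ H ⊓ K, ∀ y ∈ H ⊓ K, Φ (x * y) = Φ x + Φ y := by
    intro x hx y hy
    have := hΦ (⟨x, hx.1⟩ * ⟨y, hy.1⟩)
    rw [map_mul, hΨ1 _ (mem_map_of_mem π hx.2) _ (mem_map_of_mem π hy.2), ← hΦ, ← hΦ] at this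
    exact this
  have h2 : ∀ x ∈ H ⊓ K, ∀ g ∈ H, Φ (g⁻¹ * x * g) = Φ x := by
    intro x hx g hg
    have := hΦ ((⟨g, hg⟩ : H)⁻¹ * ⟨x, hx.1⟩ * ⟨g, hg⟩)
    rw [map_mul, map_mul, map_inv, hΨ2 _ (mem_map_of_mem π hx.2), ← hΦ] at this
    exact this
  have key : ∀ n, ∀ u ∈ H ⊓ K, (∃ k, u ^ p ^ k = 1) → orderOf u = n → Φ u = 0 := by
    intro n
    induction n using Nat.strong_induction_on with | _ n ih => ?_
    rintro u hu ⟨k, hk⟩ rfl
    have hup : IsPGroup p (zpowers u) := by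
      obtain ⟨j, -, hj⟩ := (Nat.dvd_prime_pow hp.out).1 (orderOf_dvd_of_pow_eq_one hk)
      exact IsPGroup.of_card (n := j) (by rw [Nat.card_zpowers, hj])
    obtain ⟨g, hg, hle⟩ := (isSylowIn_of_sylow_le P
      (sylow_le_normalizer_of_isWeaklyClosed hQ)).exists_conj_le hup (zpowers_le.2 hu.1)
    have h3 : g * u * g⁻¹ ∈ (P : Subgroup G) := hle (conj_mem_conj_smul (mem_zpowers u))
    have h4 := hallWielandt_aux P hQ h h1 h2 h3 (hKn.conj_mem u hu.2 g) (fun v hv hvp hlt =>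
      ih _ (by rwa [← MulAut.conj_apply, MulEquiv.orderOf_eq] at hlt) v hv hvp rfl)
    have h5 := h2 u hu g⁻¹ (inv_mem hg)
    rw [inv_inv] at h5
    rw [← h5, h4]
  obtain ⟨k, m, hm, hkm⟩ := Nat.exists_eq_pow_mul_and_not_dvd (orderOf_pos (x : G)).ne' p
    hp.out.ne_one
  have hxm : (x : G) ∈ H ⊓ K := ⟨x.2, hx⟩
  have h3 := key _ _ (pow_mem hxm m) ⟨k, by rw [← pow_mul, mul_comm, ← hkm, pow_orderOf_eq_one]⟩ rfl
  rw [addChar_pow h1 hxm, hΦ] at h3
  rcases mul_eq_zero.1 h3 with h4 | h4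
  · exact hm ((ZMod.natCast_eq_zero_iff _ _).1 h4)
  · exact hΨ3 h4

end Cfsg.Agent.Transfer
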