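import Mathlib
import Cfsg.Agent.Lib.Transfer.MinNonNilp
import Cfsg.Agent.Lib.PGrp.ElemAb
import Cfsg.Agent.Lib.Coprime.Generate
import Cfsg.Prelude.Def_LocalStructure

/-!
# The order of an irreducible module for an element of prime order; the Frobenius section of an
Itô pair
-/

set_option autoImplicit false
set_option linter.unusedSectionVars false

namespace Cfsg.Agent.Transfer

open Cfsg Subgroup
open scoped Pointwise commutatorElement

open Polynomial in
theorem finrank_eq_orderOf_of_irreducible {p q : ℕ} [hp : Fact p.Prime] [hq : Fact q.Prime]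
    (hqp : q ≠ p) {V : Type*} [AddCommGroup V] [Module (ZMod q) V] (T : Module.End (ZMod q) V)
    (hT : T ^ p = 1) (h1 : T ≠ 1)
    (hirr : ∀ W : Submodule (ZMod q) V, (∀ w ∈ W, T w ∈ W) → W = ⊥ ∨ W = ⊤) :
    Module.finrank (ZMod q) V = orderOf (q : ZMod p) := by
  have hnt : Nontrivial V := by
    by_contra h
    rw [not_nontrivial_iff_subsingleton] at h
    exact h1 (Subsingleton.elim _ _)
  have hs : IsSimpleModule (ZMod q)[X] (Module.AEval' T) := by
    have : Nontrivial (Module.AEval' T) := hnt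
    refine { eq_bot_or_eq_top := fun W => ?_ }
    rcases hirr ((W.restrictScalars (ZMod q)).comap (Module.AEval'.of T).toLinearMap)
      (fun w hw => by
        have := W.smul_mem (X : (ZMod q)[X]) hw
        exact (Module.AEval'.X_smul_of T w) ▸ this) with h | h
    · left
      rw [eq_bot_iff]
      intro w hw
      obtain ⟨w, rfl⟩ := (Module.AEval'.of T).surjective w
      have : w ∈ (⊥ : Submodule (ZMod q) V) := h ▸ hw
      rw [(Submodule.mem_bot _).mp this, map_zero]
      exact Submodule.zero_mem _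
    · right
      rw [eq_top_iff]
      intro w _
      obtain ⟨w, rfl⟩ := (Module.AEval'.of T).surjective w
      exact (h ▸ Submodule.mem_top : w ∈ (W.restrictScalars (ZMod q)).comap
        (Module.AEval'.of T).toLinearMap)
  obtain ⟨I, hI, ⟨e⟩⟩ := isSimpleModule_iff_quot_maximal.mp hs
  obtain ⟨g, rfl⟩ : ∃ g, I = Ideal.span {g} := (IsPrincipalIdealRing.principal I).principal
  have hann : ∀ f : (ZMod q)[X], g ∣ f ↔ aeval T f = 0 := fun f => by
    rw [← Ideal.mem_span_singleton, ← RingHom.mem_ker, ← Module.AEval.annihilator_eq_ker_aeval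
      (M := V), e.annihilator_eq, Ideal.annihilator_quotient]
  have hdvd : g ∣ cyclotomic p (ZMod q) * (X - 1) := by
    rw [hann, cyclotomic_prime_mul_X_sub_one]
    simp [hT]
  have hg0 : g ≠ 0 := by
    rintro rfl
    rw [zero_dvd_iff, cyclotomic_prime_mul_X_sub_one] at hdvd
    exact X_pow_sub_C_ne_zero hp.out.pos (1 : ZMod q) hdvd
  have hg : Prime g := (Ideal.span_singleton_prime hg0).mp hI.isPrime
  have hco : q.Coprime p := (Nat.coprime_primes hq.out hp.out).mpr hqp
  rcases hg.dvd_or_dvd hdvd with h | h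
  · rw [(Module.AEval'.of T).finrank_eq, (e.restrictScalars (ZMod q)).finrank_eq,
      finrank_quotient_span_eq_natDegree,
      natDegree_of_dvd_cyclotomic_of_irreducible (f := 1) (by simp) hco h hg.irreducible,
      ← orderOf_units]
    simp
  · rw [hann] at h
    exact absurd (by simpa [sub_eq_zero] using h) h1

theorem card_eq_pow_orderOf_of_irreducible_aut {p q : ℕ} [hp : Fact p.Prime] [hq : Fact q.Prime]
    (hqp : q ≠ p) {E : Type*} [CommGroup E] [Finite E] [Module (ZMod q) (Additive E)] (σ : MulAut E)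
    (hσ : σ ^ p = 1) (h1 : σ ≠ 1)
    (hirr : ∀ W : Subgroup E, (∀ w ∈ W, σ w ∈ W) → W = ⊥ ∨ W = ⊤) :
    Nat.card E = q ^ orderOf (q : ZMod p) := by
  rw [PGrp.card_eq_pow_finrank (p := q)]
  congr 1
  let φ : MulAut E →* Module.End (ZMod q) (Additive E) :=
    LinearEquiv.automorphismGroup.toLinearMapMonoidHom.comp
      (PGrp.mulAutEquivLinear (p := q)).toMonoidHom
  refine finrank_eq_orderOf_of_irreducible hqp (φ σ) (by rw [← map_pow, hσ, map_one])
    (fun h => h1 (MulEquiv.ext fun x => congrArg (fun f => Additive.toMul (f (Additive.ofMul x))) h))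
    fun W hW => ?_
  rcases hirr ((PGrp.toSubmodule (p := q)).symm W) (fun w hw => hW _ hw) with h | h
  · exact Or.inl (by simpa using congrArg (PGrp.toSubmodule (p := q)) h)
  · exact Or.inr (by simpa using congrArg (PGrp.toSubmodule (p := q)) h)

open scoped IsMulCommutative in
/-- An elementary abelian `q`-group on which `x` acts irreducibly as an automorphism of prime order
`p ≠ q` has order `q ^ e`, where `e` is the order of `q` modulo `p`. -/
theorem card_eq_pow_orderOf_of_irreducible {G : Type*} [Group G] [Finite G] {p q : ℕ}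
    [hp : Fact p.Prime] [hq : Fact q.Prime] (hqp : q ≠ p) {A : Subgroup G}
    (hA : IsElementaryAbelian q A) {x : G} (hx : x ∈ normalizer (A : Set G))
    (hxp : x ^ p ∈ centralizer (A : Set G)) (hxc : x ∉ centralizer (A : Set G))
    (hirr : ∀ U : Subgroup G, U ≤ A → x ∈ normalizer (U : Set G) → U = ⊥ ∨ U = A) :
    Nat.card A = q ^ orderOf (q : ZMod p) := by
  have := hA.1
  have hz : zpowers x ≤ normalizer (A : Set G) := zpowers_le.mpr hx
  let _ := PGrp.zmodModule (E := A) (fun a => Subtype.ext (hA.2 a a.2))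
  refine card_eq_pow_orderOf_of_irreducible_aut hqp
    (Coprime.conjHom hz ⟨x, mem_zpowers x⟩) ?_ ?_ fun W hW => ?_
  · rw [← map_pow]
    exact (Coprime.mem_ker_conjHom hz _).mpr hxp
  · exact fun h => hxc ((Coprime.mem_ker_conjHom hz ⟨x, mem_zpowers x⟩).mp h)
  · rcases hirr (W.map A.subtype) (map_subtype_le W) (mem_normalizer_of_conj_mem (by
      rintro _ ⟨w, hw, rfl⟩
      exact ⟨_, hW w hw, rfl⟩)) with h | h
    · exact Or.inl ((map_eq_bot_iff_of_injective _ A.subtype_injective).mp h)
    · right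
      rw [← map_subtype_inj, h, ← MonoidHom.range_eq_map, range_subtype]

variable {G : Type*} [Group G] [Finite G] {p : ℕ} [hp : Fact p.Prime]

theorem isPClosed_of_isPGroup (h : IsPGroup p G) : IsPClosed p G := fun P => by
  have : (⊤ : Subgroup G) = P := P.3 (h.to_subgroup _) le_top
  rw [← this]
  infer_instance

theorem isPClosed_of_not_dvd (h : ¬ p ∣ Nat.card G) : IsPClosed p G := fun P => by
  have : (P : Subgroup G) = ⊥ := by
    by_contra hb
    obtain ⟨q, hq, hd⟩ := Core.exists_prime_dvd_card_of_ne_bot hb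
    exact h (Core.isPGroup_iff_forall_prime_dvd.mp P.2 q hq hd ▸ hd.trans (card_subgroup_dvd_card _))
  rw [this]
  infer_instance

theorem isPClosed_of_normal (P : Sylow p G) (h : (P : Subgroup G).Normal) : IsPClosed p G :=
  fun Q => by
    have := Sylow.unique_of_normal P h
    rwa [Subsingleton.elim Q P]

theorem IsSylowIn.le_normalizer_of_isPClosed {X H : Subgroup G} (hX : IsSylowIn p X H)
    (h : IsPClosed p H) : H ≤ normalizer (X : Set G) := by
  have := h hX.toSylow
  conv_rhs => rw [← hX.map_toSylow]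
  exact Core.le_normalizer_map_subtype H _

theorem IsSylowIn.isPClosed {X H : Subgroup G} (hX : IsSylowIn p X H)
    (h : H ≤ normalizer (X : Set G)) : IsPClosed p H :=
  isPClosed_of_normal hX.toSylow (hX.coe_toSylow ▸ Core.normal_subgroupOf_of_le_normalizer h)

/-- The section `X ⟨g⟩ / X' ⟨g ^ q⟩` of an Itô pair is a Frobenius group with elementary abelian
minimal normal kernel and complement of order `q`. -/
theorem ItoPair.exists_frobenius_section {q : ℕ} {X : Subgroup G} {g : G} (h : ItoPair p q X g) :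
    ∃ (N : Subgroup (X ⊔ zpowers g : Subgroup G)) (_ : N.Normal)
      (V C : Subgroup ((X ⊔ zpowers g : Subgroup G) ⧸ N)), Frob.IsFrobPair V C ∧ V ⊔ C = ⊤ ∧
      IsElementaryAbelian p V ∧ Nat.card C = q ∧ Core.IsMinNormal V := by
  set H := X ⊔ zpowers g with hH
  set D := ⁅X, X⁆ ⊔ zpowers (g ^ q) with hD
  have hgq : H ≤ centralizer (zpowers (g ^ q) : Set G) := by
    rw [Cls.centralizer_zpowers]
    exact sup_le (fun x hx => mem_centralizer_singleton_iff.mpr (h.pow_mem_centralizer x hx))
      ((Cls.zpowers_le_centralizer_single g).trans (Cls.centralizer_single_le_pow g q))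
  have hHD : H ≤ normalizer (D : Set G) := Core.le_normalizer_sup
    (Core.le_normalizer_commutator h.sup_le_normalizer h.sup_le_normalizer)
    (hgq.trans (centralizer_le_normalizer _))
  have hN : (D.subgroupOf H).Normal := Core.normal_subgroupOf_of_le_normalizer hHD
  have hgn : zpowers (g ^ q) ≤ normalizer ((⁅X, X⁆ : Subgroup G) : Set G) :=
    zpowers_le.mpr (pow_mem h.mem_normalizer_commutator q)
  have hzz : zpowers (g ^ q) ≤ zpowers g := zpowers_le.mpr (pow_mem (mem_zpowers g) q)
  have hDX : D ⊓ X = ⁅X, X⁆ := by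
    rw [hD, sup_comm, Core.sup_inf_eq_inf_sup_of_le_normalizer hgn h.commutator_lt.le,
      eq_bot_iff.mpr ((inf_le_inf_right X hzz).trans (by rw [inf_comm, h.inf_zpowers])), bot_sup_eq]
  have hDc : D ≤ centralizer (X : Set G) := sup_le h.class_two (zpowers_le.mpr h.pow_mem_centralizer)
  set f := QuotientGroup.mk' (D.subgroupOf H) with hf
  have hf1 : ∀ x : H, f x = 1 ↔ (x : G) ∈ D := fun x => QuotientGroup.eq_one_iff x
  let g' : H := ⟨g, mem_sup_right (mem_zpowers g)⟩
  have hg1 : f g' ≠ 1 := fun h1 => h.not_mem_centralizer (hDc ((hf1 _).mp h1))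
  have hgo : orderOf (f g') = q := by
    have := Fact.mk h.prime
    refine orderOf_eq_prime ?_ hg1
    rw [← map_pow, hf1]
    exact mem_sup_right (mem_zpowers _)
  have hXn : (X.subgroupOf H).Normal := Core.normal_subgroupOf_of_le_normalizer h.sup_le_normalizer
  have hVn : ((X.subgroupOf H).map f).Normal := hXn.map _ (QuotientGroup.mk'_surjective _)
  have hVb : (X.subgroupOf H).map f ≠ ⊥ := fun hb => by
    refine h.commutator_lt.not_ge fun x hx => hDX ▸ ⟨?_, hx⟩
    exact (hf1 ⟨x, mem_sup_left hx⟩).mp (mem_bot.mp (hb ▸ mem_map_of_mem f hx))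
  refine ⟨D.subgroupOf H, hN, (X.subgroupOf H).map f, zpowers (f g'),
    ⟨le_normalizer_of_normal, hVb, fun hb => hg1 (zpowers_eq_bot.mp hb), ?_⟩, ?_, ⟨?_, ?_⟩,
    by rw [Nat.card_zpowers, hgo], hVn, hVb, ?_⟩
  · rintro _ ⟨n, rfl⟩ hu1 _ ⟨x, hx, rfl⟩ hc
    have hu : g ^ n ∉ centralizer (X : Set G) := fun hu => hu1 (by
      change f g' ^ n = 1
      rw [← map_zpow, hf1]
      by_contra hn
      have := zpowers_eq_of_not_mem h.prime h.exists_orderOf.choose_spec
        (mem_sup_right (mem_zpowers _) : g ^ q ∈ D) (zpow_mem (mem_zpowers g) n) hn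
      exact h.not_mem_centralizer (zpowers_le.mpr hu (this ▸ mem_zpowers g)))
    have h2 := h.of_mem_zpowers (zpow_mem (mem_zpowers g) n) hu
    rw [hf1]
    refine mem_sup_left (h2.mem_commutator_of_commutatorElement_mem hx (hDX ▸ ⟨?_, ?_⟩))
    · refine (hf1 ⁅x, g' ^ n⁆).mp ?_
      rw [map_commutatorElement, map_zpow, commutatorElement_eq_one_iff_mul_comm]
      exact hc.symm
    · exact Coprime.commutator_le_of_le_normalizer h.zpowers_le_normalizer
        (commutator_mem_commutator hx (zpow_mem (mem_zpowers g) n))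
  · rw [← MonoidHom.map_zpowers, ← Subgroup.map_sup, ← map_top_of_surjective f
      (QuotientGroup.mk'_surjective _)]
    congr 1
    rw [← map_subtype_inj, Subgroup.map_sup, MonoidHom.map_zpowers, subgroupOf_map_subtype,
      inf_eq_left.mpr le_sup_left, ← MonoidHom.range_eq_map, range_subtype]
    rfl
  · refine Core.isMulCommutative_of_forall ?_
    rintro _ ⟨x, hx, rfl⟩ _ ⟨y, hy, rfl⟩
    rw [← commutatorElement_eq_one_iff_mul_comm, ← map_commutatorElement, hf1]
    exact mem_sup_left (commutator_mem_commutator hx hy)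
  · rintro _ ⟨x, hx, rfl⟩
    rw [← map_pow, hf1]
    exact mem_sup_left (h.pow_mem_commutator hx)
  · intro K hK hKV
    set U := ((K.comap f).map H.subtype) ⊓ X with hU
    by_cases hUX : U = X
    · refine Or.inr (le_antisymm hKV ?_)
      rintro _ ⟨x, hx, rfl⟩
      obtain ⟨y, hy, he⟩ := (hUX.ge hx).1
      exact (Subtype.ext he : y = x) ▸ hy
    · have h1 := h.le_commutator (lt_of_le_of_ne inf_le_right hUX) (Core.le_normalizer_inf
        (Core.le_normalizer_map_subtype H (K.comap f)) h.sup_le_normalizer g'.2)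
      refine Or.inl (eq_bot_iff.mpr fun k hk => ?_)
      obtain ⟨x, hx, rfl⟩ := hKV hk
      exact (hf1 x).mpr (mem_sup_left (h1 ⟨⟨x, hk, rfl⟩, hx⟩))

end Cfsg.Agent.Transfer
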